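import Groth.Agent.Sga4h.H926.GamDim
import Groth.Prelude.Def_FinFr

/-!
# The scheme of fixed points of an endomorphism of a disjoint union

* `fixι`, `fixLift`: the universal property of `FinFr.fixScheme`;
* `isPullback_fixMap`: the fixed scheme of the restriction of `f` to a stable open subscheme;
* `fixCount_sum`: `X` the disjoint union of clopen pieces; the number of fixed points with multiplicity is the
  sum over the stable pieces.
-/

set_option autoImplicit false
universe u

open CategoryTheory CategoryTheory.Limits AlgebraicGeometry Opposite TopologicalSpace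

namespace Groth.Agent.Sga4h.H926.FixDec

open FinFr Groth.Agent.Sga4h.H926.GamDim

variable {k : Type u} [Field k] {X : Scheme.{u}} (p : X ⟶ Spec (CommRingCat.of k)) (f : X ⟶ X)
  (hf : f ≫ p = p)

/-- The inclusion of the scheme of fixed points. -/
noncomputable def fixι : fixScheme p f hf ⟶ X := pullback.fst _ _

theorem fixι_comp : fixι p f hf ≫ f = fixι p f hf := by
  have h := pullback.condition
    (f := (pullback.lift (𝟙 X) f (by rw [hf, Category.id_comp]) : X ⟶ pullback p p))
    (g := (pullback.lift (𝟙 X) (𝟙 X) rfl : X ⟶ pullback p p))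
  have h1 := congrArg (fun t => t ≫ pullback.fst p p) h
  have h2 := congrArg (fun t => t ≫ pullback.snd p p) h
  simp only [Category.assoc, pullback.lift_fst, pullback.lift_snd, Category.comp_id] at h1 h2
  exact h2.trans h1.symm

instance : Mono (fixι p f hf) := by
  have h : Mono (pullback.lift (𝟙 X) (𝟙 X) rfl : X ⟶ pullback p p) := by
    have : (pullback.lift (𝟙 X) (𝟙 X) rfl : X ⟶ pullback p p) = pullback.diagonal p := rfl
    rw [this]
    infer_instance
  exact pullback.fst_of_mono

theorem fixSchemeTo_eq : fixSchemeTo p f hf = fixι p f hf ≫ p := rfl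

/-- Morphisms to the scheme of fixed points. -/
noncomputable def fixLift {T : Scheme.{u}} (t : T ⟶ X) (h : t ≫ f = t) : T ⟶ fixScheme p f hf :=
  pullback.lift t t (by
    apply pullback.hom_ext
    · rw [Category.assoc, Category.assoc, pullback.lift_fst, pullback.lift_fst]
    · rw [Category.assoc, Category.assoc, pullback.lift_snd, pullback.lift_snd, h,
        Category.comp_id])

@[reassoc (attr := simp)]
theorem fixLift_ι {T : Scheme.{u}} (t : T ⟶ X) (h : t ≫ f = t) :
    fixLift p f hf t h ≫ fixι p f hf = t := pullback.lift_fst _ _ _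

section restrict

variable {U : Scheme.{u}} (ι : U ⟶ X) (g : U ⟶ U) (w : g ≫ ι = ι ≫ f)

include hf w in
theorem comp_eq : g ≫ ι ≫ p = ι ≫ p := by
  rw [← Category.assoc, w, Category.assoc, hf]

/-- The map of schemes of fixed points. -/
noncomputable def fixMap : fixScheme (ι ≫ p) g (comp_eq p f hf ι g w) ⟶ fixScheme p f hf :=
  fixLift p f hf (fixι (ι ≫ p) g (comp_eq p f hf ι g w) ≫ ι) (by
    rw [Category.assoc, ← w, ← Category.assoc, fixι_comp])

theorem fixMap_ι : fixMap p f hf ι g w ≫ fixι p f hf =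
    fixι (ι ≫ p) g (comp_eq p f hf ι g w) ≫ ι := fixLift_ι _ _ _ _ _

theorem fixMap_to : fixMap p f hf ι g w ≫ fixSchemeTo p f hf =
    fixSchemeTo (ι ≫ p) g (comp_eq p f hf ι g w) := by
  rw [fixSchemeTo_eq, fixSchemeTo_eq, ← Category.assoc, fixMap_ι, Category.assoc]

theorem isPullback_fixMap [Mono ι] : IsPullback (fixMap p f hf ι g w)
    (fixι (ι ≫ p) g (comp_eq p f hf ι g w)) (fixι p f hf) ι := by
  refine ⟨⟨fixMap_ι p f hf ι g w⟩, ⟨PullbackCone.IsLimit.mk _ (fun s =>
    fixLift (ι ≫ p) g (comp_eq p f hf ι g w) s.snd ?_) ?_ ?_ ?_⟩⟩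
  · rw [← cancel_mono ι, Category.assoc, w, ← Category.assoc, ← s.condition, Category.assoc,
      fixι_comp]
  · intro s
    rw [← cancel_mono (fixι p f hf), Category.assoc, fixMap_ι, fixLift_ι_assoc, s.condition]
  · intro s
    rw [fixLift_ι]
  · intro s m _ h2
    rw [← cancel_mono (fixι (ι ≫ p) g (comp_eq p f hf ι g w)), h2, fixLift_ι]

instance [IsOpenImmersion ι] : IsOpenImmersion (fixMap p f hf ι g w) :=
  MorphismProperty.of_isPullback (isPullback_fixMap p f hf ι g w).flip inferInstance

instance [IsClosedImmersion ι] : IsClosedImmersion (fixMap p f hf ι g w) :=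
  MorphismProperty.of_isPullback (isPullback_fixMap p f hf ι g w).flip inferInstance

theorem range_fixMap [Mono ι] :
    Set.range (fixMap p f hf ι g w) = (fixι p f hf) ⁻¹' (Set.range ι) := by
  have h := isPullback_fixMap p f hf ι g w
  have h1 : fixMap p f hf ι g w = h.isoPullback.hom ≫ pullback.fst (fixι p f hf) ι :=
    (h.isoPullback_hom_fst).symm
  rw [h1, ← Scheme.Pullback.range_fst]
  ext x
  constructor
  · rintro ⟨y, rfl⟩
    exact ⟨h.isoPullback.hom y, rfl⟩
  · rintro ⟨y, rfl⟩
    refine ⟨h.isoPullback.inv y, ?_⟩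
    rw [← Scheme.Hom.comp_apply, Iso.inv_hom_id_assoc]

end restrict

/-- The global sections of a finite scheme over a field are finite dimensional. -/
theorem finΓ_of_isFinite {Z : Scheme.{u}} (z : Z ⟶ Spec (CommRingCat.of k)) [IsFinite z] :
    FinΓ z := by
  have h1 : z.appTop.hom.Finite := (HasAffineProperty.iff_of_isAffine (P := @IsFinite).1 ‹_›).2
  have h2 : ((Scheme.ΓSpecIso (CommRingCat.of k)).inv ≫ z.appTop).hom.Finite := by
    rw [CommRingCat.hom_comp]
    exact h1.comp (RingHom.Finite.of_surjective _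
      (ConcreteCategory.bijective_of_isIso (Scheme.ΓSpecIso (CommRingCat.of k)).inv).2)
  exact h2

theorem fixCount_eq : fixCount p f hf = dimΓ (fixSchemeTo p f hf) := rfl

/-- **Additivity of the number of fixed points.** -/
theorem fixCount_sum {J : Type} {V : J → Scheme.{u}} (ι : ∀ j, V j ⟶ X)
    [∀ j, IsOpenImmersion (ι j)] [∀ j, IsClosedImmersion (ι j)]
    (hd : ∀ i j, i ≠ j → Disjoint (Set.range (ι i)) (Set.range (ι j)))
    (hc : ∀ x : X, ∃ j, x ∈ Set.range (ι j)) (S : J → Prop) [Fintype {j // S j}]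
    (g : ∀ j : {j // S j}, (V j.1 ⟶ V j.1)) (w : ∀ j, g j ≫ ι j.1 = ι j.1 ≫ f)
    (hns : ∀ j, ¬ S j → ∃ i, i ≠ j ∧ ∃ g' : V j ⟶ V i, g' ≫ ι i = ι j ≫ f)
    [IsFinite (fixSchemeTo p f hf)] :
    fixCount p f hf = ∑ j : {j // S j}, fixCount (ι j.1 ≫ p) (g j) (comp_eq p f hf _ (g j) (w j)) := by
  have h1 : ∀ j : {j // S j}, fixMap p f hf (ι j.1) (g j) (w j) ≫ fixSchemeTo p f hf =
      fixSchemeTo (ι j.1 ≫ p) (g j) (comp_eq p f hf _ (g j) (w j)) :=
    fun j => fixMap_to p f hf (ι j.1) (g j) (w j)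
  have h2 := dimΓ_sum (fixSchemeTo p f hf) (fun j : {j // S j} => fixMap p f hf (ι j.1) (g j) (w j))
    (fun i j hij => by
      rw [range_fixMap, range_fixMap]
      exact (hd i.1 j.1 (fun h => hij (Subtype.ext h))).preimage _)
    (fun x => by
      obtain ⟨j, hj⟩ := hc (fixι p f hf x)
      have hS : S j := by
        by_contra hS
        obtain ⟨i, hij, g', hg'⟩ := hns j hS
        obtain ⟨y, hy⟩ := hj
        have h3 : f (fixι p f hf x) = fixι p f hf x := by
          rw [← Scheme.Hom.comp_apply, fixι_comp]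
        have h4 : f (fixι p f hf x) ∈ Set.range (ι i) := by
          rw [← hy, ← Scheme.Hom.comp_apply, ← hg']
          exact ⟨g' y, rfl⟩
        rw [h3] at h4
        exact Set.disjoint_left.1 (hd i j hij) h4 ⟨y, hy⟩
      refine ⟨⟨j, hS⟩, ?_⟩
      rw [range_fixMap]
      exact hj)
    (fun j => finΓ_of_isFinite _)
  rw [fixCount_eq, h2]
  refine Finset.sum_congr rfl fun j _ => ?_
  rw [fixCount_eq, h1]

/-- The scheme of fixed points of a stable clopen piece is finite. -/
theorem isFinite_piece [IsFinite (fixSchemeTo p f hf)] {U : Scheme.{u}} (ι : U ⟶ X)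
    [IsClosedImmersion ι] (g : U ⟶ U) (w : g ≫ ι = ι ≫ f) :
    IsFinite (fixSchemeTo (ι ≫ p) g (comp_eq p f hf ι g w)) := by
  rw [← fixMap_to p f hf ι g w]
  infer_instance

end Groth.Agent.Sga4h.H926.FixDec
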