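import Groth.Agent.Fixpt.H926.Comp
import Groth.Agent.Sga4h.H926.FixDec
import Groth.Agent.Picfga.CurveRelDim
import Groth.Agent.Sga4B.SmoothNormal
import Groth.Agent.Ega1.GenPts

/-!
# Reduction of the Lefschetz fixed point formula to connected schemes, any dimension

`of_connected`: `Λ` any commutative ring, `k` any field.  If the formula
`lef Λ f = fixCount p f hf` holds for integral `X` smooth of relative dimension `d` and proper over `k` (and
their cohomology groups are finite free and vanish in large degrees), then it holds for all proper smooth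
`X` over `k`.
-/

set_option autoImplicit false
universe u

open CategoryTheory CategoryTheory.Limits AlgebraicGeometry Opposite TopologicalSpace

namespace Groth.Agent.Sga4h.H926.CompH

open Groth.Agent.Fixpt.H902 Groth.Agent.Fixpt.H902.MX Groth.Agent.Fixpt.H926
open Groth.Agent.Fixpt.H926.TrComp Groth.Agent.Fixpt.H926.Comp
open FinFr FixDec

variable {k : Type u} [Field k]

/-- An integral scheme smooth over a field is smooth of some relative dimension. -/
theorem exists_relDim (X : Scheme.{u}) (f : X ⟶ Spec (CommRingCat.of k))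
    [Smooth f] [IsIntegral X] : ∃ n : ℕ, SmoothOfRelativeDimension n f := by
  choose m V hV hxV hsm hdim hbasic using Picfga.CurveRelDim.exists_local_data k X f
  have hconst : ∀ x y, m x = m y := by
    intro x y
    obtain ⟨z, hz⟩ := nonempty_preirreducible_inter (V x).2 (V y).2 ⟨x, hxV x⟩ ⟨y, hxV y⟩
    obtain ⟨a, b, hab, hza⟩ := exists_basicOpen_le_affine_inter (hV x) (hV y) z hz
    have h1 := hbasic x a ⟨z, hza⟩
    have h2 := hbasic y b ⟨z, hab ▸ hza⟩
    rw [← hab, h1] at h2
    exact_mod_cast h2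
  have : Nonempty X := inferInstance
  obtain ⟨x₀⟩ := this
  refine ⟨m x₀, ⟨fun x => ?_⟩⟩
  obtain ⟨U, hU, e, hs⟩ := hsm x
  rw [hconst x x₀] at hs
  exact ⟨U, hU, V x, hV x, hxV x, e, hs⟩

/-- A connected smooth scheme over a field is integral. -/
theorem isIntegral_of_connected {X : Scheme.{u}} (f : X ⟶ Spec (CommRingCat.of k)) [Smooth f]
    [ConnectedSpace X] : IsIntegral X := by
  have h1 : IsLocallyNoetherian X := LocallyOfFiniteType.isLocallyNoetherian f
  rw [Groth.Agent.Ega1.GenPts.isIntegral_iff]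
  exact ⟨inferInstance, fun x => (Groth.Agent.Sga4B.SmoothNormal.isNormalScheme_of_smooth f x).1⟩

theorem finsum_eq_range' {Λ : Type*} [CommRing Λ] (t : ℕ → Λ) (N : ℕ) (h : ∀ n, N ≤ n → t n = 0) :
    ∑ᶠ n, (-1 : Λ) ^ n * t n = ∑ n ∈ Finset.range N, (-1 : Λ) ^ n * t n := by
  apply finsum_eq_sum_of_support_subset
  intro n hn
  rw [Function.mem_support] at hn
  rw [Finset.coe_range, Set.mem_Iio]
  by_contra h1
  exact hn (by rw [h n (by omega), mul_zero])

theorem lef_eq_range' {X : Scheme.{u}} (Λ : Type (u + 1)) [CommRing Λ] (F : X ⟶ X) (N : ℕ)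
    (h : ∀ n, N ≤ n → Subsingleton (HH Λ X Λ n)) :
    lef Λ F = ∑ n ∈ Finset.range N, (-1 : Λ) ^ n * LinearMap.trace Λ (HH Λ X Λ n) (res F Λ n) :=
  finsum_eq_range' _ N fun n hn => by
    have := h n hn
    rw [Subsingleton.elim (res F Λ n) 0, map_zero]

/-- **Reduction of the Lefschetz fixed point formula to integral schemes.** -/
theorem of_connected (Λ : Type (u + 1)) [CommRing Λ]
    (hfree : ∀ {X : Scheme.{u}} (d : ℕ) (p : X ⟶ Spec (CommRingCat.of k)) [IsProper p]
      [SmoothOfRelativeDimension d p] [IsIntegral X] (n : ℕ),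
      Module.Finite Λ (HH Λ X Λ n) ∧ Module.Free Λ (HH Λ X Λ n))
    (hvan : ∀ {X : Scheme.{u}} (d : ℕ) (p : X ⟶ Spec (CommRingCat.of k)) [IsProper p]
      [SmoothOfRelativeDimension d p] [IsIntegral X],
      ∃ N : ℕ, ∀ n : ℕ, N ≤ n → Subsingleton (HH Λ X Λ n))
    (hcore : ∀ {X : Scheme.{u}} (d : ℕ) (p : X ⟶ Spec (CommRingCat.of k)) [IsProper p]
      [SmoothOfRelativeDimension d p] [IsIntegral X] (f : X ⟶ X) (hf : f ≫ p = p)
      [IsFinite (fixSchemeTo p f hf)], lef Λ f = (fixCount p f hf : Λ))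
    {X : Scheme.{u}} (p : X ⟶ Spec (CommRingCat.of k)) [IsProper p]
    [Smooth p] (f : X ⟶ X) (hf : f ≫ p = p) [IsFinite (fixSchemeTo p f hf)] :
    lef Λ f = (fixCount p f hf : Λ) := by
  classical
  have : IsNoetherian X := CurvesA.ClosedPtSep.isNoetherian p
  obtain ⟨m, U, hUc, hUconn, hd, hcov⟩ := exists_partition X
  let V : Fin m → X.Opens := fun j => ⟨U j, (hUc j).2⟩
  have hV : ∀ j, Set.range (V j).ι = U j := fun j => Scheme.Opens.range_ι _
  have hci : ∀ j, IsClosedImmersion (V j).ι := fun j =>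
    IsClosedImmersion.of_isPreimmersion _ (by rw [hV]; exact (hUc j).1)
  have hconn : ∀ j, ConnectedSpace (V j).toScheme := fun j =>
    isConnected_iff_connectedSpace.1 (hUconn j)
  have hint : ∀ j, IsIntegral (V j).toScheme := fun j => isIntegral_of_connected ((V j).ι ≫ p)
  choose r hr using fun j => exists_relDim (V j).toScheme ((V j).ι ≫ p)
  have hdis : ∀ i j, i ≠ j → Disjoint (Set.range (V i).ι) (Set.range (V j).ι) := by
    intro i j hij
    rw [hV, hV]
    exact hd i j hij
  have hcov' : ∀ x : X, ∃ j, x ∈ Set.range (V j).ι := by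
    intro x
    obtain ⟨j, hj⟩ := hcov x
    exact ⟨j, by rw [hV]; exact hj⟩
  have hP := exists_piece V (fun j => (hUc j).1) hUconn hcov f
  -- the pieces which are not stable
  have hdich : ∀ j, ¬ (∃ g : (V j).toScheme ⟶ (V j).toScheme, g ≫ (V j).ι = (V j).ι ≫ f) →
      ∃ i, i ≠ j ∧ ∃ g : (V j).toScheme ⟶ (V i).toScheme, g ≫ (V i).ι = (V j).ι ≫ f := by
    intro j hj
    obtain ⟨i, hi⟩ := hP j
    have hr : Set.range ((V j).ι ≫ f) ⊆ Set.range (V i).ι := by
      rintro _ ⟨x, rfl⟩
      rw [hV, Scheme.Hom.comp_apply]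
      exact hi _ x.2
    refine ⟨i, fun hij => hj ?_, IsOpenImmersion.lift (V i).ι ((V j).ι ≫ f) hr,
      IsOpenImmersion.lift_fac _ _ _⟩
    subst hij
    exact ⟨IsOpenImmersion.lift (V i).ι ((V i).ι ≫ f) hr, IsOpenImmersion.lift_fac _ _ _⟩
  let S : Fin m → Prop := fun j =>
    ∃ g : (V j).toScheme ⟶ (V j).toScheme, g ≫ (V j).ι = (V j).ι ≫ f
  let t : ℕ → Fin m → Λ := fun n j =>
    if h : S j then LinearMap.trace Λ (HH Λ (V j).toScheme Λ n) (res h.choose Λ n) else 0
  have h1 : ∀ n, LinearMap.trace Λ (HH Λ X Λ n) (res f Λ n) = ∑ j, t n j := by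
    intro n
    have i1 := fun j => (hfree (r j) ((V j).ι ≫ p) n).1
    have i2 := fun j => (hfree (r j) ((V j).ι ≫ p) n).2
    rw [← finsum_eq_sum_of_fintype]
    refine trace_res Λ (fun j => (V j).ι) hdis hcov' f Λ n (t n) fun j => ?_
    by_cases h : S j
    · exact Or.inl ⟨h.choose, h.choose_spec, dif_pos h⟩
    · exact Or.inr ⟨hdich j h, dif_neg h⟩
  choose N hN using fun j => hvan (r j) ((V j).ι ≫ p)
  let M : ℕ := Finset.univ.sup N
  have hM : ∀ j n, M ≤ n → Subsingleton (HH Λ (V j).toScheme Λ n) := fun j n hn =>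
    hN j n ((Finset.le_sup (f := N) (Finset.mem_univ j)).trans hn)
  have hvX : ∀ n, M ≤ n → Subsingleton (HH Λ X Λ n) := by
    intro n hn
    have i1 := fun j => hM j n hn
    exact subsingleton_HH Λ (fun j => (V j).ι) hdis hcov' Λ n
  have hlef : ∀ (j : {j // S j}), ∑ n ∈ Finset.range M, (-1 : Λ) ^ n * t n j.1 =
      (fixCount ((V j.1).ι ≫ p) j.2.choose
        (comp_eq p f hf _ j.2.choose j.2.choose_spec) : Λ) := by
    intro j
    have i1 := isFinite_piece p f hf (V j.1).ι j.2.choose j.2.choose_spec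
    rw [← hcore (r j.1) ((V j.1).ι ≫ p) j.2.choose
      (comp_eq p f hf _ j.2.choose j.2.choose_spec), lef_eq_range' Λ j.2.choose M (hM j.1)]
    refine Finset.sum_congr rfl fun n _ => ?_
    rw [show t n j.1 = _ from dif_pos j.2]
  have hzero : ∀ j, ¬ S j → ∑ n ∈ Finset.range M, (-1 : Λ) ^ n * t n j = 0 := by
    intro j hj
    refine Finset.sum_eq_zero fun n _ => ?_
    rw [show t n j = _ from dif_neg hj, mul_zero]
  have hcount := fixCount_sum p f hf (fun j => (V j).ι) hdis hcov' S (fun j => j.2.choose)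
    (fun j => j.2.choose_spec) hdich
  rw [hcount, Nat.cast_sum, lef_eq_range' Λ f M hvX]
  simp only [h1, Finset.mul_sum]
  rw [Finset.sum_comm]
  rw [← Fintype.sum_subtype_add_sum_subtype S (fun j => ∑ n ∈ Finset.range M, (-1 : Λ) ^ n * t n j),
    Finset.sum_eq_zero (s := (Finset.univ : Finset {j // ¬ S j})) (fun j _ => hzero j.1 j.2), add_zero]
  exact Finset.sum_congr rfl fun j _ => hlef j

end Groth.Agent.Sga4h.H926.CompH
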