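import Groth.Agent.Sga4h.H926.SpAlg
import Groth.Agent.Sga4B.SuppFun
import Groth.Agent.Sga4h.LocCohLES
import Groth.Agent.Sga4h.LocCohLocal
import Groth.Agent.Sga4h.Edge
import Groth.Agent.Sga4h.MuLocal2

/-!
# Relative semi-purity: reduction to affine schemes and closed subschemes of finite presentation
-/

set_option autoImplicit false
universe u
open CategoryTheory CategoryTheory.Limits AlgebraicGeometry Opposite TopologicalSpace

namespace Groth.Agent.Sga4h.H926.SpRed

open EtShriek Groth.Agent.Sga4h.LocCohLocal Groth.Agent.Sga4B.SuppFun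

/-- Enlarging the open subset: vanishing below a degree is inherited by smaller supports. -/
theorem isZero_locCoh_of_le {X U W : Scheme.{u}} (jU : U ⟶ X) (jW : W ⟶ X) [Etale jU] [Etale jW]
    [EtCoh.BCCont jU] [EtCoh.BCCont jW]
    (a : U ⟶ W) (w : a ≫ jW = jU) (F : EtCoh.Ab X) (m : ℕ)
    (h : ∀ p : ℕ, p < m → IsZero ((EtDual.locCoh jU p).obj F)) (p : ℕ) (hp : p < m) :
    IsZero ((EtDual.locCoh jW p).obj F) := by
  have e1 : ((EtDual.secSupp jU ⋙ EtDual.secSupp jW).rightDerived p).obj F ≅ (EtDual.locCoh jW p).obj F :=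
    (Groth.Agent.Sga4h.RDExact.congrIso (secSuppCompIso jU jW a w) p).app F
  exact (Groth.Agent.Sga4h.Edge.isZero_rightDerived_comp (EtDual.secSupp jU) (EtDual.secSupp jW)
    (fun I hI => Groth.Agent.Sga4h.SecSupp.injective_secSupp jU I) F m h p hp).of_iso e1.symm

/-- Reduction of relative semi-purity to the case where `S` and `X` are affine and `Y` is of finite presentation. -/
theorem of_affine (n N d : ℕ)
    (H : ∀ {S X Y U : Scheme.{u}} [IsAffine S] [IsAffine X] (_ : IsUnit (n : Γ(S, ⊤)))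
      (g : X ⟶ S) [SmoothOfRelativeDimension N g] (i : Y ⟶ X) [IsClosedImmersion i]
      [LocallyOfFinitePresentation i]
      (_ : ∀ s : S, topologicalKrullDim ↥(pullback (i ≫ g) (S.fromSpecResidueField s)) ≤ d)
      (j : U ⟶ X) [IsOpenImmersion j] [QuasiCompact j] (_ : Set.range j = (Set.range i)ᶜ)
      (p : ℕ) (_ : p < 2 * (N - d)), IsZero ((EtDual.locCoh j p).obj (EtCoh.const X (ZMod n))))
    {S X Y U : Scheme.{u}} (hn : IsUnit (n : Γ(S, ⊤)))
    (g : X ⟶ S) [SmoothOfRelativeDimension N g] (i : Y ⟶ X) [IsClosedImmersion i]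
    (hfib : ∀ s : S, topologicalKrullDim ↥(pullback (i ≫ g) (S.fromSpecResidueField s)) ≤ d)
    (j : U ⟶ X) [IsOpenImmersion j] (hU : Set.range j = (Set.range i)ᶜ)
    (p : ℕ) (hp : p < 2 * (N - d)) :
    IsZero ((EtDual.locCoh j p).obj (EtCoh.const X (ZMod n))) := by
  have hsm : Smooth g := SmoothOfRelativeDimension.smooth N g
  refine isZero_of_local _ fun x => ?_
  obtain ⟨A, B, hS, hX, _, _, g', hg', v, hv, Y₁, i₁, _, _, hsub, hcpt, hdim⟩ :=
    SpAlg.exists_chart g i d hfib x
  refine ⟨Spec B, hX, inferInstance, inferInstance, v, hv, ?_⟩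
  -- smoothness of `g'`
  have hsq : IsPullback (𝟙 (Spec B)) g' (hX ≫ g) hS := by
    refine ⟨⟨by rw [Category.id_comp, hg']⟩, ⟨PullbackCone.IsLimit.mk _ (fun s => s.fst) (fun s => ?_)
      (fun s => ?_) (fun s m h1 _ => ?_)⟩⟩
    · exact Category.comp_id _
    · rw [← cancel_mono hS, Category.assoc, hg', s.condition]
    · rw [← h1]
      exact (Category.comp_id _).symm
  have hg'sm : SmoothOfRelativeDimension N g' := by
    have h1 : SmoothOfRelativeDimension (0 + N) (hX ≫ g) := inferInstance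
    rw [zero_add] at h1
    have := smoothOfRelativeDimension_isStableUnderBaseChange (n := N)
    exact MorphismProperty.of_isPullback hsq h1
  have hn' : IsUnit (n : Γ(Spec A, ⊤)) := by
    have h1 := hn.map hS.appTop.hom
    rwa [map_natCast] at h1
  -- the complement of `Y₁`
  let O : (Spec B).Opens := ⟨(Set.range i₁)ᶜ, i₁.isClosedEmbedding.isClosed_range.isOpen_compl⟩
  have hOr : Set.range O.ι = (Set.range i₁)ᶜ := Scheme.Opens.range_ι O
  have hOc : QuasiCompact O.ι := by
    have : CompactSpace O := isCompact_iff_compactSpace.1 hcpt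
    infer_instance
  have hO : ∀ q : ℕ, q < 2 * (N - d) → IsZero ((EtDual.locCoh O.ι q).obj (EtCoh.const (Spec B) (ZMod n))) :=
    fun q hq => H hn' g' i₁ hdim O.ι hOr q hq
  have sq := IsPullback.of_hasPullback j hX
  have hr : Set.range (pullback.snd j hX) = hX ⁻¹' Set.range j := Scheme.Pullback.range_snd _ _
  let a : (O : Scheme.{u}) ⟶ pullback j hX :=
    IsOpenImmersion.lift (pullback.snd j hX) O.ι (by
      rw [hOr, hr, hU, Set.preimage_compl]
      exact Set.compl_subset_compl.2 hsub)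
  have ha : a ≫ pullback.snd j hX = O.ι := IsOpenImmersion.lift_fac _ _ _
  have h2 := isZero_locCoh_of_le O.ι (pullback.snd j hX) a ha (EtCoh.const (Spec B) (ZMod n))
    (2 * (N - d)) hO p hp
  refine IsZero.of_iso ?_ ((locCohRestrIso sq p).app (EtCoh.const X (ZMod n)))
  exact h2.of_iso ((EtDual.locCoh (pullback.snd j hX) p).mapIso
    (Groth.Agent.Sga4h.EtaleRes2.constRestr hX (ZMod n)))

end Groth.Agent.Sga4h.H926.SpRed
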