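import Mathlib.AlgebraicGeometry.OpenImmersion
import Mathlib.AlgebraicGeometry.AffineScheme
import Mathlib.Topology.Sheaves.SheafCondition.UniqueGluing
import Mathlib.LinearAlgebra.Dimension.Constructions

/-!
# Dimension of the space of global sections of a scheme over a field

`dimΓ z` for `z : Z ⟶ Spec k`: the dimension over `k` of `Γ(Z, ⊤)`.
* `dimΓ_congr`: invariance under isomorphisms over `k`;
* `dimΓ_sum`: additivity for finite covers by pairwise disjoint open subschemes.
-/

set_option autoImplicit false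
universe u

open CategoryTheory CategoryTheory.Limits AlgebraicGeometry Opposite TopologicalSpace

namespace Groth.Agent.Sga4h.H926.GamDim

section sheaf

variable {Z : Scheme.{u}} {J : Type} {W : J → Scheme.{u}} (w : ∀ j, W j ⟶ Z)
  [∀ j, IsOpenImmersion (w j)]
  (hd : ∀ i j, i ≠ j → Disjoint (Set.range (w i)) (Set.range (w j)))
  (hc : ∀ x : Z, ∃ j, x ∈ Set.range (w j))

theorem appTop_eq {Y X : Scheme.{u}} (f : Y ⟶ X) [IsOpenImmersion f] :
    f.appTop = X.presheaf.map (homOfLE le_top : f ''ᵁ ⊤ ⟶ ⊤).op ≫ (f.appIso ⊤).hom := by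
  rw [Scheme.Hom.appIso_hom', Scheme.Hom.map_appLE, Scheme.Hom.appTop, Scheme.Hom.app_eq_appLE]
  rfl

include hd hc in
/-- Global sections on a disjoint union. -/
theorem bijective_appTop :
    Function.Bijective (fun (s : Γ(Z, ⊤)) (j : J) => ((w j).appTop s : Γ(W j, ⊤))) := by
  let U : J → Z.Opens := fun j => (w j) ''ᵁ ⊤
  have hU : ∀ j, ((U j : Z.Opens) : Set Z) = Set.range (w j) := fun j => by
    rw [Scheme.Hom.coe_image]
    simp
  have hcov : (⊤ : Z.Opens) ≤ iSup U := by
    intro x _
    obtain ⟨j, hj⟩ := hc x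
    rw [Opens.mem_iSup]
    refine ⟨j, ?_⟩
    change x ∈ ((U j : Z.Opens) : Set Z)
    rwa [hU]
  have hap : ∀ (j : J) (s : Γ(Z, ⊤)), (w j).appTop s =
      ((w j).appIso ⊤).hom (Z.presheaf.map (homOfLE le_top : U j ⟶ ⊤).op s) := by
    intro j s
    rw [appTop_eq]
    rfl
  have hbij : ∀ j, Function.Bijective ((w j).appIso ⊤).hom := fun j =>
    ConcreteCategory.bijective_of_isIso ((w j).appIso ⊤).hom
  constructor
  · intro s t hst
    refine Z.sheaf.eq_of_locally_eq' U ⊤ (fun j => homOfLE le_top) hcov s t fun j => ?_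
    have h1 := congrFun hst j
    dsimp only at h1
    rw [hap, hap] at h1
    exact (hbij j).1 h1
  · intro s
    choose t ht using fun j => (hbij j).2 (s j)
    have hcomp : TopCat.Presheaf.IsCompatible Z.sheaf.1 U t := by
      intro i j
      by_cases hij : i = j
      · subst hij
        rfl
      · have h1 : U i ⊓ U j = ⊥ := by
          ext x
          constructor
          · rintro ⟨hx, hx'⟩
            rw [hU] at hx hx'
            exact (Set.disjoint_left.1 (hd i j hij) hx hx').elim
          · intro hx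
            exact hx.elim
        have h2 : Subsingleton Γ(Z, U i ⊓ U j) := by
          rw [h1]
          infer_instance
        exact h2.elim _ _
    obtain ⟨g, hg, -⟩ := Z.sheaf.existsUnique_gluing' U ⊤ (fun j => homOfLE le_top) hcov t hcomp
    refine ⟨(show Γ(Z, ⊤) from g), ?_⟩
    funext j
    refine (hap j (show Γ(Z, ⊤) from g)).trans ?_
    rw [← ht j]
    exact congrArg _ (hg j)

end sheaf

variable {k : Type u} [Field k]

/-- The `k`-algebra structure on the global sections of a `k`-scheme. -/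
noncomputable abbrev algΓ {Z : Scheme.{u}} (z : Z ⟶ Spec (CommRingCat.of k)) :
    Algebra k (Γ(Z, ⊤) : Type u) :=
  RingHom.toAlgebra ((Scheme.ΓSpecIso (CommRingCat.of k)).inv ≫ z.appTop).hom

/-- The dimension of the space of global sections. -/
noncomputable def dimΓ {Z : Scheme.{u}} (z : Z ⟶ Spec (CommRingCat.of k)) : ℕ :=
  letI := algΓ z
  Module.finrank k (Γ(Z, ⊤) : Type u)

/-- The space of global sections is finite dimensional. -/
def FinΓ {Z : Scheme.{u}} (z : Z ⟶ Spec (CommRingCat.of k)) : Prop :=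
  letI := algΓ z
  Module.Finite k (Γ(Z, ⊤) : Type u)

theorem dimΓ_congr {Z Z' : Scheme.{u}} (z : Z ⟶ Spec (CommRingCat.of k))
    (z' : Z' ⟶ Spec (CommRingCat.of k)) (e : Z ≅ Z') (he : e.hom ≫ z' = z) : dimΓ z = dimΓ z' := by
  subst he
  let _ := algΓ z'
  let _ := algΓ (e.hom ≫ z')
  have h2 : IsIso e.hom.appTop := (inferInstance : IsIso (e.hom.app ⊤))
  let φ : Γ(Z', ⊤) ≃+* Γ(Z, ⊤) := (asIso e.hom.appTop).commRingCatIsoToRingEquiv
  have h3 : ∀ c : k, φ (algebraMap k Γ(Z', ⊤) c) = algebraMap k Γ(Z, ⊤) c := by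
    intro c
    change e.hom.appTop.hom (z'.appTop.hom _) = (e.hom ≫ z').appTop.hom _
    rw [Scheme.Hom.comp_appTop]
    rfl
  exact (AlgEquiv.ofRingEquiv (f := φ) h3).toLinearEquiv.finrank_eq.symm

/-- Additivity for finite covers by disjoint open subschemes. -/
theorem dimΓ_sum {Z : Scheme.{u}} (z : Z ⟶ Spec (CommRingCat.of k)) {J : Type} [Fintype J]
    {W : J → Scheme.{u}} (w : ∀ j, W j ⟶ Z) [∀ j, IsOpenImmersion (w j)]
    (hd : ∀ i j, i ≠ j → Disjoint (Set.range (w i)) (Set.range (w j)))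
    (hc : ∀ x : Z, ∃ j, x ∈ Set.range (w j)) (hf : ∀ j, FinΓ (w j ≫ z)) :
    dimΓ z = ∑ j, dimΓ (w j ≫ z) := by
  let _ := algΓ z
  let _ := fun j => algΓ (w j ≫ z)
  have hf' : ∀ j, Module.Finite k (Γ(W j, ⊤) : Type u) := hf
  let φ : (Γ(Z, ⊤) : Type u) →ₗ[k] (∀ j, (Γ(W j, ⊤) : Type u)) :=
    { toFun := fun s j => (w j).appTop s
      map_add' := fun s t => by
        funext j
        exact map_add (w j).appTop.hom s t
      map_smul' := fun c s => by
        funext j
        rw [RingHom.id_apply, Pi.smul_apply, Algebra.smul_def, Algebra.smul_def]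
        exact map_mul (w j).appTop.hom _ _ }
  have e := (LinearEquiv.ofBijective φ (bijective_appTop w hd hc)).finrank_eq
  change Module.finrank k (Γ(Z, ⊤) : Type u) = _
  rw [e, Module.finrank_pi_fintype]
  rfl

end Groth.Agent.Sga4h.H926.GamDim
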