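import Mathlib.AlgebraicGeometry.Morphisms.FiniteType
import Mathlib.AlgebraicGeometry.Morphisms.FinitePresentation
import Mathlib.AlgebraicGeometry.Morphisms.ClosedImmersion
import Groth.Agent.S0402

/-!
# Fibre dimension and closed subschemes of finite presentation

`g : X ⟶ S` locally of finite type, `i : Y ⟶ X` a closed immersion all of whose fibres over `S` have dimension `≤ d`.
Then locally on `X`, `Y` is contained in a closed subscheme of finite presentation all of whose fibres over `S` have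
dimension `≤ d`.
-/

set_option autoImplicit false
universe u
open CategoryTheory CategoryTheory.Limits AlgebraicGeometry Opposite TopologicalSpace Topology

namespace Groth.Agent.Sga4h.H926.SpAlg

open Groth.Agent.FlatA Groth.Agent.VarietyB.DimTop

/-- The canonical ring homomorphism to a fibre ring. -/
noncomputable abbrev toFib (A B : Type u) [CommRing A] [CommRing B] [Algebra A B] (q : Ideal A) [q.IsPrime] :
    B →+* q.Fiber B :=
  (Algebra.TensorProduct.includeRight : B →ₐ[A] q.Fiber B).toRingHom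

/-- An ideal generates a finitely generated ideal in a fibre ring. -/
theorem exists_fg {A B : Type u} [CommRing A] [CommRing B] [Algebra A B] [Algebra.FiniteType A B]
    (I : Ideal B) (q : Ideal A) [q.IsPrime] :
    ∃ J : Ideal B, J.FG ∧ J ≤ I ∧ J.map (toFib A B q) = I.map (toFib A B q) := by
  have : Algebra.FiniteType q.ResidueField (q.Fiber B) := inferInstance
  have hN : IsNoetherianRing (q.Fiber B) := Algebra.FiniteType.isNoetherianRing q.ResidueField _
  have h1 : (Submodule.span (q.Fiber B) ((toFib A B q) '' (I : Set B))).FG :=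
    (isNoetherianRing_iff_ideal_fg _).1 hN _
  obtain ⟨s, hs, hs'⟩ := (Submodule.fg_span_iff_fg_span_finset_subset _).1 h1
  classical
  obtain ⟨t, ht, rfl⟩ := (Finset.subset_set_image_iff.1 hs)
  refine ⟨Ideal.span (t : Set B), ⟨t, rfl⟩, Ideal.span_le.2 ht, ?_⟩
  refine le_antisymm (Ideal.map_mono (Ideal.span_le.2 ht)) ?_
  rw [Ideal.map_span]
  change Submodule.span _ _ ≤ _
  rw [hs', Finset.coe_image]

/-- The primes over `q` containing `J` contain `I`. -/
theorem le_of_fibre {A B : Type u} [CommRing A] [CommRing B] [Algebra A B]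
    (I J : Ideal B) (q : PrimeSpectrum A)
    (h : J.map (toFib A B q.asIdeal) = I.map (toFib A B q.asIdeal))
    (P : PrimeSpectrum B) (hP : PrimeSpectrum.comap (algebraMap A B) P = q) (hJ : J ≤ P.asIdeal) :
    I ≤ P.asIdeal := by
  obtain ⟨P', hP'⟩ : ∃ P' : PrimeSpectrum (q.asIdeal.Fiber B),
      PrimeSpectrum.comap (toFib A B q.asIdeal) P' = P := by
    refine ⟨PrimeSpectrum.preimageEquivFiber A B q ⟨P, hP⟩, ?_⟩
    have := (PrimeSpectrum.preimageEquivFiber A B q).symm_apply_apply ⟨P, hP⟩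
    exact congrArg Subtype.val this
  subst hP'
  rw [PrimeSpectrum.comap_asIdeal, ← Ideal.map_le_iff_le_comap] at hJ ⊢
  rw [← h]
  exact hJ

/-- Fibre dimension along an open immersion. -/
theorem fibreDimAt_comp {X Y Z : Scheme.{u}} (k : X ⟶ Y) [IsOpenImmersion k] (f : Y ⟶ Z) (x : X) :
    FlatMor.fibreDimAt (k ≫ f) x = FlatMor.fibreDimAt f (k x) := by
  rw [FibreDim.fibreDimAt_eq, FibreDim.fibreDimAt_eq]
  exact (FibreDim.localDim_fibre_eq (j := (k : X → Y)) (i := id) (f := (f : Y → Z))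
    (g := ((k ≫ f : X ⟶ Z) : X → Z)) k.isOpenEmbedding Function.injective_id
    (fun a => (Scheme.Hom.comp_apply k f a).symm) x).symm

/-- The dimension of the fibres is bounded by the local fibre dimensions. -/
theorem dim_fiber_le {X Z : Scheme.{u}} (f : X ⟶ Z) (d : ℕ) (h : ∀ x, FlatMor.fibreDimAt f x ≤ d) (z : Z) :
    topologicalKrullDim ↥(pullback f (Z.fromSpecResidueField z)) ≤ d := by
  have h1 : topologicalKrullDim ↥(pullback f (Z.fromSpecResidueField z)) =
      topologicalKrullDim ((f : X → Z) ⁻¹' {z}) := FibreDim.topologicalKrullDim_fiber_eq f z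
  rw [h1, topologicalKrullDim_eq_iSup_localDim]
  refine iSup_le fun ⟨x, hx⟩ => ?_
  have hx' : f x = z := hx
  subst hx'
  exact (FibreDim.fibreDimAt_eq f x).symm.le.trans (h x)

theorem exists_chart {S X Y : Scheme.{u}} (g : X ⟶ S) [LocallyOfFiniteType g] (i : Y ⟶ X) [IsClosedImmersion i]
    (d : ℕ) (hfib : ∀ s : S, topologicalKrullDim ↥(pullback (i ≫ g) (S.fromSpecResidueField s)) ≤ d) (x : X) :
    ∃ (A B : CommRingCat.{u}) (hS : Spec A ⟶ S) (hX : Spec B ⟶ X) (_ : IsOpenImmersion hS)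
      (_ : IsOpenImmersion hX) (g' : Spec B ⟶ Spec A) (_ : g' ≫ hS = hX ≫ g) (v : Spec B) (_ : hX v = x)
      (Y₁ : Scheme.{u}) (i₁ : Y₁ ⟶ Spec B) (_ : IsClosedImmersion i₁) (_ : LocallyOfFinitePresentation i₁),
      (hX ⁻¹' Set.range i ⊆ Set.range i₁) ∧ IsCompact (Set.range i₁)ᶜ ∧
        ∀ s : (Spec A : Scheme.{u}),
          topologicalKrullDim ↥(pullback (i₁ ≫ g') ((Spec A).fromSpecResidueField s)) ≤ d := by
  obtain ⟨V, hV, hxV, -⟩ := exists_isAffineOpen_mem_and_subset (U := ⊤) (x := g x) (by trivial)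
  obtain ⟨U, hU, hxU, hUV⟩ := exists_isAffineOpen_mem_and_subset (U := g ⁻¹ᵁ V) (x := x) hxV
  have e : U ≤ g ⁻¹ᵁ V := hUV
  have hft : (g.appLE V U e).hom.FiniteType := g.finiteType_appLE hV hU e
  have hcomp := IsAffineOpen.SpecMap_appLE_fromSpec g hV hU e
  let := (g.appLE V U e).hom.toAlgebra
  have : Algebra.FiniteType Γ(S, V) Γ(X, U) := hft
  have halg : algebraMap Γ(S, V) Γ(X, U) = (g.appLE V U e).hom := rfl
  -- the closed subset
  let I : Ideal Γ(X, U) := PrimeSpectrum.vanishingIdeal (hU.fromSpec ⁻¹' Set.range i)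
  have hI : PrimeSpectrum.zeroLocus (I : Set Γ(X, U)) = hU.fromSpec ⁻¹' Set.range i := by
    have hcl : IsClosed (hU.fromSpec ⁻¹' Set.range i) :=
      i.isClosedEmbedding.isClosed_range.preimage hU.fromSpec.continuous
    rw [PrimeSpectrum.zeroLocus_vanishingIdeal_eq_closure]
    exact hcl.closure_eq
  let x₀ : PrimeSpectrum Γ(X, U) := hU.primeIdealOf ⟨x, hxU⟩
  have hx₀ : hU.fromSpec x₀ = x := hU.fromSpec_primeIdealOf ⟨x, hxU⟩
  let q : PrimeSpectrum Γ(S, V) := PrimeSpectrum.comap (algebraMap Γ(S, V) Γ(X, U)) x₀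
  obtain ⟨J, hJ, hJI, hJq⟩ := exists_fg (A := Γ(S, V)) I q.asIdeal
  let Y₀ : Scheme.{u} := Spec (CommRingCat.of (Γ(X, U) ⧸ J))
  let i₀ : Y₀ ⟶ Spec Γ(X, U) := Spec.map (CommRingCat.ofHom (Ideal.Quotient.mk J))
  have hi₀ : IsClosedImmersion i₀ := IsClosedImmersion.spec_of_surjective _ Ideal.Quotient.mk_surjective
  have hi₀' : LocallyOfFinitePresentation i₀ := by
    rw [HasRingHomProperty.Spec_iff (P := @LocallyOfFinitePresentation)]
    exact RingHom.FinitePresentation.of_surjective _ Ideal.Quotient.mk_surjective (by simpa using hJ)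
  have hr₀ : Set.range i₀ = PrimeSpectrum.zeroLocus (J : Set Γ(X, U)) := by
    refine (range_comap_of_surjective _ (Ideal.Quotient.mk J) Ideal.Quotient.mk_surjective).trans ?_
    rw [Ideal.mk_ker]
  let g₀ : Spec Γ(X, U) ⟶ Spec Γ(S, V) := Spec.map (g.appLE V U e)
  let f : Y₀ ⟶ Spec Γ(S, V) := i₀ ≫ g₀
  have hg₀ : LocallyOfFiniteType g₀ := by
    rw [HasRingHomProperty.Spec_iff (P := @LocallyOfFiniteType)]
    exact hft
  have hf : LocallyOfFiniteType f := inferInstance
  -- the fibre of `Y₀` over `q`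
  have hsq : hV.fromSpec q = g x := by
    have h2 := congr($hcomp x₀)
    simp only [Scheme.Hom.comp_apply] at h2
    rw [hx₀] at h2
    exact h2
  have hdim : topologicalKrullDim ((f : Y₀ → Spec Γ(S, V)) ⁻¹' {q}) ≤ d := by
    have h1 : topologicalKrullDim (((i ≫ g : Y ⟶ S) : Y → S) ⁻¹' {g x}) ≤ d :=
      (FibreDim.topologicalKrullDim_fiber_eq (i ≫ g) (g x)).symm.le.trans (hfib (g x))
    have h2 := IsHomeomorph.topologicalKrullDim_eq _
      (i.isClosedEmbedding.isEmbedding.homeomorphImage (((i ≫ g : Y ⟶ S) : Y → S) ⁻¹' {g x})).isHomeomorph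
    rw [h2] at h1
    refine le_trans ?_ h1
    refine topologicalKrullDim_le_of_isEmbedding (f := hU.fromSpec ∘ i₀)
      (hU.fromSpec.isOpenEmbedding.isInducing.comp i₀.isClosedEmbedding.isInducing) _ _ ?_
    intro y hy
    have hy' : f y = q := hy
    have hyJ : i₀ y ∈ PrimeSpectrum.zeroLocus (J : Set Γ(X, U)) := by rw [← hr₀]; exact ⟨y, rfl⟩
    have hyI : i₀ y ∈ PrimeSpectrum.zeroLocus (I : Set Γ(X, U)) :=
      le_of_fibre I J q hJq (i₀ y) hy' hyJ
    rw [hI] at hyI
    obtain ⟨y', hy'⟩ := hyI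
    refine ⟨y', ?_, hy'⟩
    change (i ≫ g) y' = g x
    rw [Scheme.Hom.comp_apply, hy', ← hsq, ← Scheme.Hom.comp_apply, ← hcomp, Scheme.Hom.comp_apply]
    congr 1
  -- the good open subset
  have hx₀f : x₀ ∉ i₀ '' {y | FlatMor.fibreDimAt f y ≤ d}ᶜ := by
    rintro ⟨y, hy, hyx⟩
    refine hy ?_
    change FlatMor.fibreDimAt f y ≤ d
    rw [FibreDim.fibreDimAt_eq]
    have hfy : f y = q := by
      change g₀ (i₀ y) = q
      rw [hyx]
      rfl
    refine (localDim_le_dim _).trans ?_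
    rw [hfy]
    exact hdim
  have hopen : IsOpen (i₀ '' {y | FlatMor.fibreDimAt f y ≤ d}ᶜ)ᶜ := by
    rw [isOpen_compl_iff]
    refine i₀.isClosedEmbedding.isClosedMap _ ?_
    rw [isClosed_compl_iff]
    exact S0402.result f d
  obtain ⟨_, ⟨b, rfl⟩, hxb, hbW⟩ := PrimeSpectrum.isTopologicalBasis_basic_opens.exists_subset_of_mem_open
    (show x₀ ∈ (i₀ '' {y | FlatMor.fibreDimAt f y ≤ d}ᶜ)ᶜ from hx₀f) hopen
  let B' : CommRingCat.{u} := CommRingCat.of (Localization.Away b)
  let l : Spec B' ⟶ Spec Γ(X, U) := Spec.map (CommRingCat.ofHom (algebraMap Γ(X, U) (Localization.Away b)))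
  have hl : IsOpenImmersion l := Scheme.isOpenImmersion_SpecMap_localizationAway b
  have hlr : Set.range l = (PrimeSpectrum.basicOpen b : Set (PrimeSpectrum Γ(X, U))) :=
    PrimeSpectrum.localization_away_comap_range (Localization.Away b) b
  obtain ⟨v, hv⟩ : ∃ v, l v = x₀ := by
    have : x₀ ∈ Set.range l := by rw [hlr]; exact hxb
    exact this
  refine ⟨Γ(S, V), B', hV.fromSpec, l ≫ hU.fromSpec, inferInstance, inferInstance, l ≫ g₀, ?_, v, ?_,
    pullback i₀ l, pullback.snd i₀ l, inferInstance, inferInstance, ?_, ?_, ?_⟩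
  · rw [Category.assoc, Category.assoc, hcomp]
  · rw [Scheme.Hom.comp_apply, hv, hx₀]
  · intro z hz
    rw [Scheme.Pullback.range_snd]
    change l z ∈ Set.range i₀
    rw [hr₀]
    refine PrimeSpectrum.zeroLocus_anti_mono_ideal hJI ?_
    rw [hI]
    change hU.fromSpec (l z) ∈ Set.range i
    rw [← Scheme.Hom.comp_apply]
    exact hz
  · rw [Scheme.Pullback.range_snd, hr₀]
    have h3 : (l ⁻¹' (PrimeSpectrum.zeroLocus (J : Set Γ(X, U))))ᶜ =
        (PrimeSpectrum.zeroLocus ((J.map (algebraMap Γ(X, U) (Localization.Away b)) :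
          Ideal (Localization.Away b)) : Set (Localization.Away b)))ᶜ := by
      congr 1
      exact (PrimeSpectrum.preimage_comap_zeroLocus (algebraMap Γ(X, U) (Localization.Away b)) (J : Set Γ(X, U))).trans
        (PrimeSpectrum.zeroLocus_span _).symm
    rw [h3]
    exact (PrimeSpectrum.isCompact_isOpen_iff_ideal.2 ⟨_, hJ.map _, rfl⟩).1
  · refine dim_fiber_le _ d fun y => ?_
    have h4 : pullback.snd i₀ l ≫ l ≫ g₀ = pullback.fst i₀ l ≫ f := by
      rw [← Category.assoc, ← pullback.condition, Category.assoc]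
    rw [h4, fibreDimAt_comp]
    by_contra hcon
    have h5 : (pullback.fst i₀ l ≫ i₀) y ∈ (PrimeSpectrum.basicOpen b : Set (PrimeSpectrum Γ(X, U))) := by
      rw [pullback.condition, Scheme.Hom.comp_apply, ← hlr]
      exact ⟨_, rfl⟩
    refine hbW h5 ⟨pullback.fst i₀ l y, hcon, ?_⟩
    rw [Scheme.Hom.comp_apply]

end Groth.Agent.Sga4h.H926.SpAlg
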